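import Cfsg.Agent.Lib.SchurMult.McLTwoFive.Elements
import Cfsg.Agent.Lib.SchurMult.SmallSylow
import Cfsg.Prelude.Def_Spor_Conway
import Cfsg.Prelude.Def_SporadicB
import Cfsg.Agent.Lib.SchurMult.Criterion

/-!
The kernel of a stem extension of the McLaughlin group has order prime to 10.
-/

set_option autoImplicit false
set_option maxRecDepth 100000
set_option Elab.async false

namespace CfsgLib.SchurMult.McLTwoFive

open Cfsg CfsgLib.Leech CfsgLib.Fischer2 CfsgLib.Mathieu.McLOut
open CfsgLib.SchurMult CfsgLib.SchurMult.PermCert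
open CfsgLib.GolayStructure (triGroup vecU coordVec_vecU coordVec_baseP leech_ext)
open scoped Pointwise

theorem col_table : Data.col.tableOK = true := by decide +kernel

theorem col_solved : Data.col.solvedOK = true := by decide +kernel

theorem two_ok : tbl.twoOK Data.col Data.ptsTwo Data.orderTwo = true := by decide +kernel

theorem card_KG_two : Nat.card KG = 2 ^ 7 * (3 ^ 6 * 5 ^ 3 * 7 * 11) := by
  rw [natCard_KG]; norm_num

theorem card_KG_five : Nat.card KG = 5 ^ 3 * (2 ^ 7 * 3 ^ 6 * 7 * 11) := by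
  rw [natCard_KG]; norm_num

theorem finite_KG : Finite KG := Nat.finite_of_card_ne_zero (by rw [natCard_KG]; norm_num)

/-- At the prime 2, for extensions of the stabiliser of the pair. -/
theorem not_two_KG {Γ : Type} [Group Γ] [Finite Γ] {τ : Γ →* KG} (hτ : Cfsg.IsStemExtension τ) :
    ¬ 2 ∣ Nat.card τ.ker := by
  haveI := finite_KG
  exact realises.not_two_dvd two_ok col_table col_solved
    ⟨3 ^ 6 * 5 ^ 3 * 7 * 11, by norm_num, card_KG_two⟩ Γ τ hτ

/-- The equal words of the Sylow subgroup at 5 with two conjugations. -/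
def relsFive : List (List ℕ × List ℕ) :=
  [([12, 13], [14, 13, 12]), (Tables.rep 12 5, []), (Tables.rep 13 5, []), (Tables.rep 14 5, []),
    ([12, 14], [14, 12]), ([13, 14], [14, 13]),
    ([15, 12], Tables.rep 12 4 ++ Tables.rep 14 3 ++ [15]), ([15, 14], [14, 15]),
    ([16, 13], Tables.rep 13 4 ++ [16]), ([16, 14], [14, 16])]

theorem relsFive_ok : relsFive.all (fun r => tbl.sameWord r.1 r.2) = true := by decide +kernel

theorem wordsFive_ok : tbl.keysIncr Data.ptsFive Data.wordsFive = true ∧ Data.wordsFive.length = 5 ^ 3 ∧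
    (∀ w ∈ Data.wordsFive, ∀ i ∈ w, i = 12 ∨ i = 13) ∧ ∀ q ∈ Data.ptsFive, q < 275 := by decide +kernel

theorem el_fourteen_ne_one : el 14 ≠ 1 := by
  intro e
  have h2 := rep_el moved_ok.2 0
  rw [e, map_one, Equiv.Perm.one_apply] at h2
  have h3 := moved_ok.1
  rw [show tbl.img 14 0 = 0 from h2.symm] at h3
  simp at h3

/-- At the prime 5, for extensions of the stabiliser of the pair. -/
theorem not_five_KG {Γ : Type} [Group Γ] [Finite Γ] {τ : Γ →* KG} (hτ : Cfsg.IsStemExtension τ) :
    ¬ 5 ∣ Nat.card τ.ker := by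
  haveI := finite_KG
  have hrels := relsFive_ok
  simp only [relsFive, List.all_cons, List.all_nil, Bool.and_eq_true, and_true] at hrels
  obtain ⟨e1, ex, ey, ez, exz, eyz, egx, egz, ehy, ehz⟩ := hrels
  replace e1 := realises.eq_of_sameWord e1
  replace ex := realises.eq_of_sameWord ex
  replace ey := realises.eq_of_sameWord ey
  replace ez := realises.eq_of_sameWord ez
  replace exz := realises.eq_of_sameWord exz
  replace eyz := realises.eq_of_sameWord eyz
  replace egx := realises.eq_of_sameWord egx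
  replace egz := realises.eq_of_sameWord egz
  replace ehy := realises.eq_of_sameWord ehy
  replace ehz := realises.eq_of_sameWord ehz
  simp only [lprod_append, Tables.lprod_rep, lprod, mul_one] at e1 ex ey ez exz eyz egx egz ehy ehz
  have hzc : el 12 * el 13 * (el 12)⁻¹ * (el 13)⁻¹ = el 14 := by rw [e1]; group
  obtain ⟨h1, h2, h3, h4⟩ := wordsFive_ok
  exact OddSylow.not_dvd_of_extraspecial hτ Nat.prime_five hzc ex ey el_fourteen_ne_one exz eyz
    (a := 4) (b := 3) (c := 0) (d := 1) (a' := 4) (b' := 0) (c' := 0) (d' := 1)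
    (mul_inv_eq_iff_eq_mul.2 egx) (g := el 15) (h := el 16)
    (mul_inv_eq_iff_eq_mul.2 (by rw [pow_zero, pow_one, one_mul]; exact egz)) (by norm_num)
    (mul_inv_eq_iff_eq_mul.2 (by rw [pow_zero, mul_one]; exact ehy))
    (mul_inv_eq_iff_eq_mul.2 (by rw [pow_zero, pow_one, one_mul]; exact ehz)) (by norm_num)
    (realises.not_dvd_index Nat.prime_five h4 h1 h2 h3 card_KG_five (by norm_num)
      (Tables.natCard_closure_le_cube (by norm_num) ex ey ez hzc exz eyz))

/-- The stabiliser of the pair is the McLaughlin group of the definitions. -/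
noncomputable def equivMcL : KG ≃* Cfsg.Spor.McL :=
  equivTri.trans <| ((triGroup baseP).equivMapOfInjective _ Co0.subtype_injective).trans <|
    MulEquiv.subgroupCongr <| by
      have hneg : Spor.leechV = -vecU := by
        refine leech_ext fun p => ?_
        show Spor.vecV p = -coordVec vecU p
        rw [coordVec_vecU, Spor.vecV]
        split_ifs <;> norm_num
      have hUP : Spor.leechU = baseP := by
        refine leech_ext fun p => ?_
        show Spor.vecU p = coordVec baseP p
        rw [coordVec_baseP, Spor.vecU]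
        rfl
      ext g
      simp only [Spor.McL, Spor.Co3, Subgroup.mem_inf, MulAction.mem_stabilizer_iff,
        Subgroup.mem_map, Subgroup.coe_subtype]
      constructor
      · rintro ⟨x, ⟨hx, hy⟩, rfl⟩
        refine ⟨⟨x.2, ?_⟩, hUP ▸ hy⟩
        rw [hneg]
        exact (smul_neg_co0 x vecU).trans (congrArg Neg.neg hx)
      · rintro ⟨⟨hg, hv⟩, hu⟩
        refine ⟨⟨g, hg⟩, ⟨?_, hUP ▸ hu⟩, rfl⟩
        exact neg_injective ((smul_neg_co0 ⟨g, hg⟩ vecU).symm.trans (hneg ▸ hv))

/-- No stem extension of the McLaughlin group has a kernel of order divisible by 2. -/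
theorem mcl_not_two_dvd_card_ker {Γ : Type} [Group Γ] [Finite Γ] {σ : Γ →* Cfsg.Spor.McL}
    (hσ : Cfsg.IsStemExtension σ) : ¬ 2 ∣ Nat.card σ.ker := by
  obtain ⟨h1, h2⟩ := isStemExtension_comp_equiv hσ equivMcL.symm
  rw [← h2]
  exact not_two_KG h1

/-- No stem extension of the McLaughlin group has a kernel of order divisible by 5. -/
theorem mcl_not_five_dvd_card_ker {Γ : Type} [Group Γ] [Finite Γ] {σ : Γ →* Cfsg.Spor.McL}
    (hσ : Cfsg.IsStemExtension σ) : ¬ 5 ∣ Nat.card σ.ker := by
  obtain ⟨h1, h2⟩ := isStemExtension_comp_equiv hσ equivMcL.symm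
  rw [← h2]
  exact not_five_KG h1

end CfsgLib.SchurMult.McLTwoFive
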