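import Cfsg.Agent.Lib.SchurMult.McLTwoFive.Data
import Cfsg.Agent.Lib.SchurMult.PermCert
import Cfsg.Agent.Lib.SchurMult.OddSylow
import Cfsg.Agent.Lib.Mathieu.McLOut
import Cfsg.Agent.Lib.Leech.UnitaryPairs

/-!
The McLaughlin group on 275 minimal vectors, given by keys, and the tables of the certificate as elements
of the stabiliser of the pair of base vectors.
-/

set_option autoImplicit false
set_option maxRecDepth 100000
set_option Elab.async false

namespace CfsgLib.SchurMult.McLTwoFive

open Cfsg CfsgLib.Leech CfsgLib.Fischer2 CfsgLib.Mathieu.McLOut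
open CfsgLib.SchurMult CfsgLib.SchurMult.PermCert
open CfsgLib.SporRecognition.CosetCert (allBelow allBelow_spec field)

/-- The tables. -/
def tbl : Tables where
  n := 275
  depth := 9
  ts := Data.eltTbls

/-- The key of a point. -/
def keyAt (u : ℕ) : ℕ := Data.keys.getD u 0

theorem keys_ok : keysOk 275 keyAt = true := by decide +kernel

theorem exists_pt (u : Fin 275) : ∃ x : leechLattice, sqNorm (coordVec x) = 32 ∧ key x = keyAt u := by
  have h := keys_ok
  simp only [keysOk, List.all_eq_true, List.mem_range, Bool.and_eq_true] at h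
  exact exists_of_keyOk (h u u.2).1

/-- The vector of a point. -/
noncomputable def ptV (u : Fin 275) : leechLattice := (exists_pt u).choose

theorem ptV_spec (u : Fin 275) : sqNorm (coordVec (ptV u)) = 32 ∧ key (ptV u) = keyAt u :=
  (exists_pt u).choose_spec

theorem ptV_injective : Function.Injective ptV := by
  intro u v h
  refine Fin.ext (eq_of_keysOk keys_ok u.2 v.2 ?_)
  rw [← (ptV_spec u).2, ← (ptV_spec v).2, h]

/-- Table `i` follows the letter `n` on the keys. -/
noncomputable def baseRow (n : Fin 13) (i : ℕ) : Bool :=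
  allBelow 9 275 fun u =>
    Nat.blt (tbl.img i u) 275 && Nat.beq (stepKey (datOf n) (keyAt u)) (keyAt (tbl.img i u))

theorem base_ok : baseRow 0 (Data.baseIdx.getD 0 0) = true ∧ baseRow 9 (Data.baseIdx.getD 1 0) = true ∧
    baseRow 2 (Data.baseIdx.getD 2 0) = true ∧ baseRow 4 (Data.baseIdx.getD 3 0) = true := by
  decide +kernel

/-- A table comes from an element of the group. -/
def RealM (t : ℕ → ℕ) : Prop :=
  ∃ g : KG, ∀ u : Fin 275, ∃ h : t u < 275, (g : Co0) • ptV u = ptV ⟨t u, h⟩

theorem real_base {n : Fin 13} {i : ℕ} (h : baseRow n i = true) : RealM (tbl.img i) := by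
  refine ⟨lt n, fun u => ?_⟩
  have h1 := allBelow_spec h u u.2
  simp only [Bool.and_eq_true, Nat.blt_eq] at h1
  obtain ⟨hlt, hk⟩ := h1
  refine ⟨hlt, key_inj ?_ (ptV_spec _).1 ?_⟩
  · rw [sqNorm_smul', (ptV_spec u).1]
  · show key (letterAut n • ptV u) = _
    rw [letterAut, ← key_matAut (matOf_ok n) (datOf_ok n) (ptV_spec u).1, (ptV_spec u).2, (ptV_spec _).2]
    exact Nat.eq_of_beq_eq_true hk

/-- The letters of each definition are known when it is reached, and everything is reached. -/
def defsKnown : List (ℕ × List ℕ) → List ℕ → Bool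
  | [], known => (List.range tbl.ts.length).all fun i => known.contains i
  | (a, w) :: ds, known => w.all (fun i => known.contains i) && defsKnown ds (a :: known)

theorem known_ok : defsKnown Data.defsList Data.baseIdx = true ∧ Data.baseIdx.length = 4 := by
  decide +kernel

theorem defs_ok : Data.defsList.all (fun p => tbl.sameWord [p.1] p.2) = true := by decide +kernel

theorem real_word {w : List ℕ} (h : ∀ i ∈ w, RealM (tbl.img i)) : RealM (tbl.imgW w) := by
  induction w with
  | nil => exact ⟨1, fun u => ⟨u.2, one_smul Co0 _⟩⟩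
  | cons a w ih =>
    obtain ⟨g, hg⟩ := h a (List.mem_cons_self ..)
    obtain ⟨k, hk⟩ := ih fun i hi => h i (List.mem_cons_of_mem _ hi)
    refine ⟨g * k, fun u => ?_⟩
    obtain ⟨h1, e1⟩ := hk u
    obtain ⟨h2, e2⟩ := hg ⟨_, h1⟩
    refine ⟨h2, ?_⟩
    rw [Subgroup.coe_mul, mul_smul, e1, e2]
    rfl

theorem real_all : ∀ {ds : List (ℕ × List ℕ)} {known : List ℕ}, defsKnown ds known = true →
    (∀ p ∈ ds, tbl.sameWord [p.1] p.2 = true) →
    (∀ i ∈ known, RealM (tbl.img i)) → ∀ i < tbl.ts.length, RealM (tbl.img i)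
  | [], known, h, _, hk, i, hi => by
    simp only [defsKnown, List.all_eq_true, List.mem_range, List.contains_iff_mem] at h
    exact hk i (h i hi)
  | (a, w) :: ds, known, h, hs, hk, i, hi => by
    simp only [defsKnown, Bool.and_eq_true, List.all_eq_true, List.contains_iff_mem] at h
    obtain ⟨hw, hrest⟩ := h
    refine real_all hrest (fun p hp => hs p (List.mem_cons_of_mem _ hp)) (fun j hj => ?_) i hi
    rcases List.mem_cons.1 hj with rfl | hj
    · obtain ⟨g, hg⟩ := real_word fun k hk' => hk k (hw k hk')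
      have hsu := hs _ (List.mem_cons_self ..)
      simp only [Tables.sameWord, Bool.and_eq_true] at hsu
      refine ⟨g, fun u => ?_⟩
      obtain ⟨h1, e⟩ := hg u
      have e2 : tbl.img j u = tbl.imgW w u := Nat.eq_of_beq_eq_true (allBelow_spec hsu.2 u u.2)
      exact ⟨by rw [e2]; exact h1, e.trans (congrArg ptV (Fin.ext e2.symm))⟩
    · exact hk j hj

theorem real_tables : ∀ i < tbl.ts.length, RealM (tbl.img i) := by
  refine real_all known_ok.1 (List.all_eq_true.1 defs_ok) fun i hi => ?_
  obtain ⟨b0, b1, b2, b3⟩ := base_ok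
  obtain ⟨k, hk, rfl⟩ := List.getElem_of_mem hi
  have hk' : k < 4 := known_ok.2 ▸ hk
  rw [← List.getD_eq_getElem _ 0 hk]
  interval_cases k
  exacts [real_base b0, real_base b1, real_base b2, real_base b3]

theorem preserves_gen : ∀ g ∈ genSet, ∀ u : Fin 275, ∃ v : Fin 275, (g : Co0) • ptV u = ptV v := by
  obtain ⟨b0, b1, b2, b3⟩ := base_ok
  have key' : ∀ {n : Fin 13} {i : ℕ}, baseRow n i = true →
      ∀ u : Fin 275, ∃ v : Fin 275, ((lt n : KG) : Co0) • ptV u = ptV v := by
    intro n i h u
    have h1 := allBelow_spec h u u.2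
    simp only [Bool.and_eq_true, Nat.blt_eq] at h1
    refine ⟨⟨_, h1.1⟩, key_inj ?_ (ptV_spec _).1 ?_⟩
    · rw [sqNorm_smul', (ptV_spec u).1]
    · show key (letterAut n • ptV u) = _
      rw [letterAut, ← key_matAut (matOf_ok n) (datOf_ok n) (ptV_spec u).1, (ptV_spec u).2, (ptV_spec _).2]
      exact Nat.eq_of_beq_eq_true h1.2
  intro g hg
  simp only [genSet, Set.mem_insert_iff, Set.mem_singleton_iff] at hg
  rcases hg with rfl | rfl | rfl | rfl
  exacts [key' b0, key' b1, key' b2, key' b3]

theorem preserves (g : KG) (u : Fin 275) : ∃ v : Fin 275, (g : Co0) • ptV u = ptV v := by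
  haveI : Finite KG := Nat.finite_of_card_ne_zero (by rw [natCard_KG]; norm_num)
  have hg : g ∈ Submonoid.closure (genSet : Set KG) := by
    rw [← Subgroup.closure_toSubmonoid_of_finite, Subgroup.mem_toSubmonoid]
    show g ∈ genGrp
    rw [genGrp_eq_top]
    exact Subgroup.mem_top _
  induction hg using Submonoid.closure_induction generalizing u with
  | mem x hx => exact preserves_gen x hx u
  | one => exact ⟨u, one_smul Co0 _⟩
  | mul a b _ _ iha ihb =>
    obtain ⟨v, hv⟩ := ihb u
    obtain ⟨w, hw⟩ := iha v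
    exact ⟨w, by rw [Subgroup.coe_mul, mul_smul, hv, hw]⟩

/-- The image of a point. -/
noncomputable def ptImg (g : KG) (u : Fin 275) : Fin 275 := (preserves g u).choose

theorem ptV_ptImg (g : KG) (u : Fin 275) : ptV (ptImg g u) = (g : Co0) • ptV u :=
  (preserves g u).choose_spec.symm

theorem ptImg_mul (g h : KG) (u : Fin 275) : ptImg (g * h) u = ptImg g (ptImg h u) :=
  ptV_injective (by rw [ptV_ptImg, ptV_ptImg, ptV_ptImg, Subgroup.coe_mul, mul_smul])

theorem ptImg_one (u : Fin 275) : ptImg 1 u = u :=
  ptV_injective (by rw [ptV_ptImg, Subgroup.coe_one, one_smul])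

/-- The action on the 275 points. -/
noncomputable def rep : KG →* Equiv.Perm (Fin 275) where
  toFun g :=
    { toFun := ptImg g
      invFun := ptImg g⁻¹
      left_inv := fun u => by rw [← ptImg_mul, inv_mul_cancel, ptImg_one]
      right_inv := fun u => by rw [← ptImg_mul, mul_inv_cancel, ptImg_one] }
  map_one' := Equiv.ext fun u => ptImg_one u
  map_mul' g h := Equiv.ext fun u => ptImg_mul g h u

open scoped Classical in
/-- The listed elements. -/
noncomputable def el (i : ℕ) : KG :=
  if h : RealM (tbl.img i) then h.choose else 1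

theorem rep_el {i : ℕ} (hi : i < tbl.ts.length) (u : Fin 275) : (rep (el i) u : ℕ) = tbl.img i u := by
  have h := real_tables i hi
  obtain ⟨h1, e⟩ := h.choose_spec u
  have : ptImg (el i) u = ⟨_, h1⟩ := ptV_injective (by rw [ptV_ptImg, el, dif_pos h]; exact e)
  exact congrArg Fin.val this

theorem moved_ok : Nat.beq (tbl.img 14 0) 0 = false ∧ 14 < tbl.ts.length := by decide +kernel

theorem isSimpleGroup_KG : IsSimpleGroup KG := by
  haveI := CfsgLib.GolayStructure.isSimpleGroup_triGroup_baseP
  exact CfsgLib.GolayStructure.isSimpleGroup_of_mulEquiv' equivTri.symm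

theorem rep_injective : Function.Injective rep := by
  haveI := isSimpleGroup_KG
  refine (MonoidHom.ker_eq_bot_iff _).1 ((Subgroup.Normal.eq_bot_or_eq_top (H := rep.ker) inferInstance).resolve_right
    fun htop => ?_)
  have h1 : rep (el 14) = 1 := MonoidHom.mem_ker.1 (htop ▸ Subgroup.mem_top _)
  have h2 := rep_el moved_ok.2 0
  rw [h1, Equiv.Perm.one_apply] at h2
  have h3 := moved_ok.1
  rw [show tbl.img 14 0 = 0 from h2.symm] at h3
  simp at h3

theorem realises : tbl.Realises rep el where
  deg := rfl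
  inj := rep_injective
  img _ hi u := rep_el hi u

end CfsgLib.SchurMult.McLTwoFive
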